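import Cfsg.Agent.Small.ThompsonTransfer
import Mathlib.GroupTheory.IndexNormal

/-!
A nonabelian simple group with Sylow 2-subgroups of order eight has one class of involutions.
-/

set_option autoImplicit false
set_option linter.style.haveILetI false
set_option linter.unusedSectionVars false

namespace CfsgLib.J1Local

open Subgroup

variable {G : Type*} [Group G] [Finite G] [IsSimpleGroup G]

omit [Finite G] [IsSimpleGroup G] in
theorem orderOf_conj_inv (g x : G) : orderOf (g⁻¹ * x * g) = orderOf x := by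
  have := MulEquiv.orderOf_eq (MulAut.conj g⁻¹) x
  rwa [MulAut.conj_apply, inv_inv] at this

theorem no_index_two (hab : ¬ IsMulCommutative G) (H : Subgroup G) : H.index ≠ 2 := by
  intro h
  have hn : H.Normal := Subgroup.normal_of_index_eq_two h
  rcases hn.eq_bot_or_eq_top with h' | h'
  · rw [h', index_bot] at h
    haveI : Fact (Nat.Prime 2) := ⟨Nat.prime_two⟩
    haveI : IsCyclic G := isCyclic_of_prime_card h
    exact hab inferInstance
  · rw [h', index_top] at h
    omega

/-- A subgroup of order four of a Sylow 2-subgroup of order eight holds a conjugate of every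
involution. -/
theorem exists_conj_mem (hab : ¬ IsMulCommutative G) (S : Sylow 2 G)
    (h8 : Nat.card (S : Subgroup G) = 8) {M : Subgroup G} (hMS : M ≤ S) (hM : Nat.card M = 4)
    {u : G} (hu : orderOf u = 2) : ∃ g : G, g⁻¹ * u * g ∈ M := by
  refine CfsgLib.Small.thompson_transfer_sylow (no_index_two hab) S M hMS ?_ hu
  have h := Subgroup.card_mul_index (M.subgroupOf (S : Subgroup G))
  rw [Nat.card_congr (subgroupOfEquivOfLe hMS).toEquiv, hM, h8] at h
  show (M.subgroupOf (S : Subgroup G)).index = 2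
  omega

omit [Finite G] [IsSimpleGroup G] in
theorem eq_of_mem_zpowers_four {y w : G} (hy : orderOf y = 4) (hw : w ∈ zpowers y)
    (hw2 : orderOf w = 2) : w = y ^ 2 := by
  obtain ⟨k, rfl⟩ := hw
  have h2 : (y ^ k) ^ 2 = 1 := by rw [← hw2, pow_orderOf_eq_one]
  rw [← zpow_natCast (y ^ k), ← zpow_mul, ← orderOf_dvd_iff_zpow_eq_one, hy] at h2
  show y ^ k = y ^ 2
  rw [← zpow_mod_orderOf, hy]
  have h3 : k % 4 = 0 ∨ k % 4 = 2 := by push_cast at h2; omega
  rcases h3 with h3 | h3
  · exfalso
    have h4 : y ^ k = 1 := by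
      rw [← orderOf_dvd_iff_zpow_eq_one, hy]; push_cast; omega
    change orderOf (y ^ k) = 2 at hw2
    rw [h4, orderOf_one] at hw2
    omega
  · rw [show ((4 : ℕ) : ℤ) = 4 from rfl, h3]
    exact zpow_natCast y 2

omit [Finite G] [IsSimpleGroup G] in
theorem conj_mul_conj (n g x : G) : g * (n * x * n⁻¹) * g⁻¹ = (g * n) * x * (g * n)⁻¹ := by group

/-- Conjugates under the normalizer. -/
def orbN (S : Subgroup G) (u : G) : Set G :=
  {v | ∃ n ∈ normalizer (S : Set G), n * u * n⁻¹ = v}

omit [IsSimpleGroup G] in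
theorem orbN_odd (h16 : ¬ 16 ∣ Nat.card G) (S : Subgroup G) (h8 : Nat.card S = 8)
    (hcomm : ∀ a ∈ S, ∀ b ∈ S, a * b = b * a) {u : G} (hu : u ∈ S) : (orbN S u).ncard % 2 = 1 := by
  let N := normalizer (S : Set G)
  letI : MulAction N G := MulAction.compHom G ((MulAut.conj (G := G)).comp N.subtype)
  have hsm : ∀ (n : N) (x : G), n • x = (n : G) * x * (n : G)⁻¹ := fun _ _ => rfl
  have e : MulAction.orbit N u = orbN S u := by
    ext v
    constructor
    · rintro ⟨n, rfl⟩; exact ⟨n, n.2, rfl⟩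
    · rintro ⟨n, hn, rfl⟩; exact ⟨⟨n, hn⟩, rfl⟩
  rw [← e, ← MulAction.index_stabilizer]
  have hle : S.subgroupOf N ≤ MulAction.stabilizer N u := by
    intro a ha
    rw [MulAction.mem_stabilizer_iff, hsm, hcomm _ (mem_subgroupOf.1 ha) _ hu, mul_inv_cancel_right]
  have h1 : 8 ∣ Nat.card (MulAction.stabilizer N u) := by
    have := card_dvd_of_le hle
    rwa [Nat.card_congr (subgroupOfEquivOfLe le_normalizer).toEquiv, h8] at this
  have h2 := (MulAction.stabilizer N u).card_mul_index
  by_contra h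
  refine h16 (dvd_trans ?_ N.card_subgroup_dvd_card)
  rw [← h2, show (16 : ℕ) = 8 * 2 from rfl]
  exact mul_dvd_mul h1 (by omega)

omit [Finite G] [IsSimpleGroup G] in
theorem orbN_subset (S : Subgroup G) {u : G} (hu : u ∈ S) (hu1 : u ≠ 1) :
    orbN S u ⊆ (S : Set G) \ {1} := by
  rintro v ⟨n, hn, rfl⟩
  refine ⟨(mem_normalizer_iff.1 hn u).1 hu, fun h => hu1 ?_⟩
  exact conj_eq_one_iff.1 h

omit [Finite G] [IsSimpleGroup G] in
theorem orbN_eq {S : Subgroup G} {u v : G} (h : v ∈ orbN S u) : orbN S v = orbN S u := by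
  obtain ⟨n, hn, rfl⟩ := h
  ext w
  constructor
  · rintro ⟨m, hm, rfl⟩
    exact ⟨m * n, mul_mem hm hn, (conj_mul_conj n m u).symm⟩
  · rintro ⟨m, hm, rfl⟩
    exact ⟨m * n⁻¹, mul_mem hm (inv_mem hn), by group⟩

/-- The elementary abelian case. -/
theorem isConj_elementary (hab : ¬ IsMulCommutative G) (h16 : ¬ 16 ∣ Nat.card G) (S : Sylow 2 G)
    (h8 : Nat.card (S : Subgroup G) = 8) (hsq : ∀ x ∈ (S : Subgroup G), x * x = 1) {u v : G}
    (hu : u ∈ (S : Subgroup G)) (hu1 : u ≠ 1) (hv : v ∈ (S : Subgroup G)) (hv1 : v ≠ 1) :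
    IsConj u v := by
  classical
  have hcomm : ∀ a ∈ (S : Subgroup G), ∀ b ∈ (S : Subgroup G), a * b = b * a := fun a ha b hb => by
    have hinv : ∀ x ∈ (S : Subgroup G), x⁻¹ = x := fun x hx => inv_eq_of_mul_eq_one_right (hsq x hx)
    calc a * b = (a * b)⁻¹ := (hinv _ (mul_mem ha hb)).symm
      _ = b⁻¹ * a⁻¹ := mul_inv_rev a b
      _ = b * a := by rw [hinv a ha, hinv b hb]
  haveI : IsMulCommutative (S : Subgroup G) :=
    ⟨⟨fun a b => Subtype.ext (hcomm a a.2 b b.2)⟩⟩
  haveI : Fact (Nat.Prime 2) := ⟨Nat.prime_two⟩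
  have hS7 : ((S : Set G) \ {1}).ncard = 7 := by
    rw [Set.ncard_sdiff (Set.singleton_subset_iff.2 (one_mem _)), Set.ncard_singleton]
    have : (S : Set G).ncard = 8 := by rw [← Nat.card_coe_set_eq]; exact h8
    omega
  -- no orbit is a single point
  have hthree : ∀ w ∈ (S : Subgroup G), w ≠ 1 → 3 ≤ (orbN (S : Subgroup G) w).ncard := by
    intro w hw hw1
    have hodd := orbN_odd h16 (S : Subgroup G) h8 hcomm hw
    by_contra h
    have h1 : (orbN (S : Subgroup G) w).ncard = 1 := by omega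
    obtain ⟨x, hx⟩ := Set.ncard_eq_one.1 h1
    have hwx : w = x := by
      have : w ∈ orbN (S : Subgroup G) w := ⟨1, one_mem _, by group⟩
      rwa [hx] at this
    subst hwx
    have hcard : ∀ t : Finset G, t.card < 8 → ∃ a ∈ (S : Subgroup G), a ∉ t := by
      intro t ht
      by_contra hc
      push Not at hc
      have : (S : Set G).ncard ≤ t.card := by
        rw [← Set.ncard_coe_finset]
        exact Set.ncard_le_ncard (fun a ha => hc a ha) t.finite_toSet
      have h8' : (S : Set G).ncard = 8 := by rw [← Nat.card_coe_set_eq]; exact h8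
      omega
    obtain ⟨a, ha, ha'⟩ := hcard {1, w} (by
      refine lt_of_le_of_lt Finset.card_le_two ?_; norm_num)
    obtain ⟨b, hb, hb'⟩ := hcard {1, w, a, a * w} (by
      refine lt_of_le_of_lt Finset.card_le_four ?_; norm_num)
    simp only [Finset.mem_insert, Finset.mem_singleton, not_or] at ha' hb'
    let M : Subgroup G :=
      { carrier := {1, a, b, a * b}
        one_mem' := by simp
        mul_mem' := by
          have haa := hsq a ha
          have hbb := hsq b hb
          have hba := hcomm b hb a ha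
          have e1 : a * (a * b) = b := by rw [← mul_assoc, haa, one_mul]
          have e2 : b * (a * b) = a := by rw [← mul_assoc, hba, mul_assoc, hbb, mul_one]
          have e3 : a * b * a = b := by rw [mul_assoc, hba, e1]
          have e4 : a * b * b = a := by rw [mul_assoc, hbb, mul_one]
          have e5 : a * b * (a * b) = 1 := hsq _ (mul_mem ha hb)
          intro p q hp hq
          simp only [Set.mem_insert_iff, Set.mem_singleton_iff] at hp hq ⊢
          rcases hp with hp | hp | hp | hp <;> rcases hq with hq | hq | hq | hq <;> rw [hp, hq] <;>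
            simp [haa, hbb, hba, e1, e2, e3, e4, e5]
        inv_mem' := by
          intro p hp
          have : p * p = 1 := by
            simp only [Set.mem_insert_iff, Set.mem_singleton_iff] at hp
            rcases hp with rfl | rfl | rfl | rfl
            exacts [one_mul 1, hsq _ ha, hsq _ hb, hsq _ (mul_mem ha hb)]
          rwa [inv_eq_of_mul_eq_one_right this] }
    have hMS : M ≤ (S : Subgroup G) := by
      intro p hp
      rcases hp with rfl | rfl | rfl | rfl
      exacts [one_mem _, ha, hb, mul_mem ha hb]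
    have hab' : a * b ≠ 1 := fun h => hb'.2.2.1 (by
      rw [← mul_right_inj a, h, hsq a ha])
    have hbw : a * b ≠ w := fun h => hb'.2.2.2 (by
      rw [← mul_right_inj a, h, ← mul_assoc, hsq a ha, one_mul])
    have hM4 : Nat.card M = 4 := by
      show Nat.card ({1, a, b, a * b} : Set G) = 4
      rw [Nat.card_coe_set_eq, Set.ncard_insert_of_notMem, Set.ncard_insert_of_notMem,
        Set.ncard_pair]
      · exact fun h => ha'.1 (mul_eq_right.1 h.symm)
      · simp only [Set.mem_insert_iff, Set.mem_singleton_iff, not_or]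
        exact ⟨fun h => hb'.2.2.1 h.symm, fun h => hb'.1 (mul_eq_left.1 h.symm)⟩
      · simp only [Set.mem_insert_iff, Set.mem_singleton_iff, not_or]
        exact ⟨fun h => ha'.1 h.symm, fun h => hb'.1 h.symm, fun h => hab' h.symm⟩
    obtain ⟨g, hg⟩ := exists_conj_mem hab S h8 hMS hM4 (u := w)
      (orderOf_eq_prime (by rw [sq, hsq w hw]) hw1)
    obtain ⟨n, hn, e⟩ := S.conj_eq_normalizer_conj_of_mem w g hw (hMS hg)
    have hmem : n⁻¹ * w * n ∈ orbN (S : Subgroup G) w := ⟨n⁻¹, inv_mem hn, by group⟩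
    rw [hx, Set.mem_singleton_iff] at hmem
    rw [e, hmem] at hg
    rcases hg with h | h | h | h
    exacts [hw1 h, ha'.2 h.symm, hb'.2.1 h.symm, hbw h.symm]
  by_contra hne
  have hsub : ∀ w ∈ (S : Subgroup G), w ≠ 1 → orbN (S : Subgroup G) w ⊆ (S : Set G) \ {1} :=
    fun w hw hw1 => orbN_subset _ hw hw1
  have hdisj : ∀ w z : G, z ∉ orbN (S : Subgroup G) w →
      Disjoint (orbN (S : Subgroup G) w) (orbN (S : Subgroup G) z) := by
    intro w z h
    rw [Set.disjoint_left]
    intro p hp hq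
    apply h
    rw [← orbN_eq hp, orbN_eq hq]
    exact ⟨1, one_mem _, by group⟩
  have hv' : v ∉ orbN (S : Subgroup G) u := fun ⟨n, _, e⟩ => hne (isConj_iff.2 ⟨n, e⟩)
  have h1 := hdisj u v hv'
  have hu3 := hthree u hu hu1
  have hv3 := hthree v hv hv1
  have hsu := hsub u hu hu1
  have hsv := hsub v hv hv1
  have h12 := Set.ncard_union_eq h1
  have hle : (orbN (S : Subgroup G) u ∪ orbN (S : Subgroup G) v).ncard ≤ 7 :=
    hS7 ▸ Set.ncard_le_ncard (Set.union_subset hsu hsv)
  have hou := orbN_odd h16 (S : Subgroup G) h8 hcomm hu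
  have hov := orbN_odd h16 (S : Subgroup G) h8 hcomm hv
  obtain ⟨w, hwS, hwn⟩ : ∃ w ∈ (S : Set G) \ {1},
      w ∉ orbN (S : Subgroup G) u ∪ orbN (S : Subgroup G) v := by
    by_contra hc
    push Not at hc
    have := Set.ncard_le_ncard (s := (S : Set G) \ {1}) (fun w hw => hc w hw)
    omega
  have hw3 := hthree w hwS.1 hwS.2
  rw [Set.mem_union, not_or] at hwn
  have h3 := Set.ncard_union_eq (Set.disjoint_union_left.2 ⟨hdisj u w hwn.1, hdisj v w hwn.2⟩)
  have hle' := Set.ncard_le_ncard
    (Set.union_subset (Set.union_subset hsu hsv) (hsub w hwS.1 hwS.2))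
  omega

/-- One class of involutions. -/
theorem isConj_involutions (hab : ¬ IsMulCommutative G) (h16 : ¬ 16 ∣ Nat.card G) (S : Sylow 2 G)
    (h8 : Nat.card (S : Subgroup G) = 8) {u v : G} (hu : orderOf u = 2) (hv : orderOf v = 2) :
    IsConj u v := by
  haveI : Fact (Nat.Prime 2) := ⟨Nat.prime_two⟩
  by_cases hsq : ∀ x ∈ (S : Subgroup G), x * x = 1
  · have key : ∀ w : G, orderOf w = 2 → ∃ w' ∈ (S : Subgroup G), w' ≠ 1 ∧ IsConj w w' := by
      intro w hw
      obtain ⟨T, hT⟩ := (IsPGroup.of_card (p := 2) (n := 1) (G := zpowers w)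
        (by rw [Nat.card_zpowers, hw, pow_one])).exists_le_sylow
      obtain ⟨g, hg⟩ := MulAction.exists_smul_eq G T S
      refine ⟨g * w * g⁻¹, ?_, fun h => ?_, isConj_iff.2 ⟨g, rfl⟩⟩
      · rw [← hg, Sylow.coe_subgroup_smul]
        exact ⟨w, hT (mem_zpowers w), rfl⟩
      · rw [conj_eq_one_iff] at h
        rw [h, orderOf_one] at hw
        omega
    obtain ⟨u', hu', hu1, cu⟩ := key u hu
    obtain ⟨v', hv', hv1, cv⟩ := key v hv
    exact cu.trans ((isConj_elementary hab h16 S h8 hsq hu' hu1 hv' hv1).trans cv.symm)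
  · push Not at hsq
    obtain ⟨x, hx, hxx⟩ := hsq
    obtain ⟨y, hy, hy4⟩ : ∃ y ∈ (S : Subgroup G), orderOf y = 4 := by
      have hd : orderOf x ∣ 2 ^ 3 := by
        have := Subgroup.orderOf_dvd_natCard _ hx
        rwa [h8] at this
      obtain ⟨i, hi, e⟩ := (Nat.dvd_prime_pow Nat.prime_two).1 hd
      have h2 : ¬ orderOf x ∣ 2 := by
        rw [orderOf_dvd_iff_pow_eq_one, sq]; exact hxx
      interval_cases i
      · exact absurd (e ▸ by norm_num) h2
      · exact absurd (e ▸ by norm_num) h2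
      · exact ⟨x, hx, e⟩
      · exact ⟨x ^ 2, pow_mem hx 2, by rw [orderOf_pow, e]; norm_num⟩
    have key : ∀ w : G, orderOf w = 2 → IsConj w (y ^ 2) := by
      intro w hw
      obtain ⟨g, hg⟩ := exists_conj_mem hab S h8 (M := zpowers y) (zpowers_le.2 hy)
        (by rw [Nat.card_zpowers, hy4]) hw
      have := eq_of_mem_zpowers_four hy4 hg ((orderOf_conj_inv g w).trans hw)
      exact isConj_iff.2 ⟨g⁻¹, by rw [inv_inv]; exact this⟩
    exact (key u hu).trans (key v hv).symm

end CfsgLib.J1Local
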