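import Cfsg.Agent.SolvCrit.Order175560
import Cfsg.Agent.J1Local.OneClass

/-!
Involutions centralizing Sylow subgroups of prime order: the incidence count.
-/

set_option autoImplicit false
set_option linter.style.haveILetI false
set_option linter.unusedSectionVars false

namespace CfsgLib.J1Local

open Subgroup CfsgLib.SolvCrit.Order175560
open scoped Classical Pointwise

universe u

variable {G : Type u} [Group G] [Finite G]

/-- A forced normal Sylow subgroup in a centralizer, as an inclusion of normalizers. -/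
theorem normalizer_le_forced {r s : ℕ} [hr : Fact r.Prime] [hs : Fact s.Prime] (hne : r ≠ s)
    (hdr : r ∣ Nat.card G) (h2r : ¬ r ^ 2 ∣ Nat.card G)
    (h2s : ¬ s ^ 2 ∣ Nat.card G)
    (h : s ∣ (data G r).2.2) (hk : ∀ k, k ∣ (data G r).2.2 / s → k % s = 1 → k = 1) :
    ∃ K : Subgroup G, Nat.card K = s ∧
      normalizer (sub G r : Set G) ≤ normalizer (K : Set G) := by
  have hS := card_sub (G := G) hdr
  obtain ⟨hCcard, hNcard, -⟩ := data_spec hdr h2r hS
  set C := centralizer (sub G r : Set G) with hC
  have hsC : s ∣ Nat.card C := hCcard ▸ h.mul_left r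
  have h2C : ¬ s ^ 2 ∣ Nat.card C := fun h' => h2s (h'.trans C.card_subgroup_dvd_card)
  -- the Sylow subgroup of the centralizer is unique
  have huniq : Subsingleton (Sylow s C) := by
    obtain ⟨T⟩ : Nonempty (Sylow s C) := inferInstance
    have hT := card_sylow' hsC h2C T
    have h1 := T.card_eq_index_normalizer
    rw [← T.coe_coe] at h1
    have h3 : Nat.card (Sylow s C) * Nat.card (normalizer ((T : Subgroup C) : Set C)) =
        r * (data G r).2.2 := by
      rw [h1, mul_comm, card_mul_index, hCcard]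
    have h4 : (sub G r).subgroupOf C ≤ normalizer ((T : Subgroup C) : Set C) := by
      refine le_trans (fun z hz => ?_) (centralizer_le_normalizer _)
      rw [mem_centralizer_iff]
      intro w _
      exact Subtype.ext (mem_centralizer_iff.1 w.2 _ (mem_subgroupOf.1 hz)).symm
    have h5 : r * s ∣ Nat.card (normalizer ((T : Subgroup C) : Set C)) := by
      refine Nat.Coprime.mul_dvd_of_dvd_of_dvd ((Nat.coprime_primes hr.out hs.out).2 hne) ?_ ?_
      · have := card_dvd_of_le h4
        rwa [Nat.card_congr (subgroupOfEquivOfLe (le_centralizer_self hS)).toEquiv, hS] at this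
      · have := card_dvd_of_le (le_normalizer (H := (T : Subgroup C)))
        rwa [hT] at this
    obtain ⟨m, hm⟩ := h5
    obtain ⟨c', hc'⟩ := h
    rw [hm, hc'] at h3
    have h6 : Nat.card (Sylow s C) * m = c' :=
      mul_left_cancel₀ (mul_ne_zero hr.out.pos.ne' hs.out.pos.ne') (by linarith)
    have h7 : Nat.card (Sylow s C) = 1 := by
      refine hk _ ?_ ?_
      · rw [hc', Nat.mul_div_cancel_left _ hs.out.pos]
        exact ⟨m, h6.symm⟩
      · have := card_sylow_modEq_one s C
        rwa [Nat.ModEq, Nat.mod_eq_of_lt hs.out.one_lt] at this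
    exact (Nat.card_eq_one_iff_unique.1 h7).1
  obtain ⟨T⟩ : Nonempty (Sylow s C) := inferInstance
  have hT : Nat.card ((T : Subgroup C).map C.subtype) = s := by
    rw [card_map_of_injective C.subtype_injective, card_sylow' hsC h2C T]
  have huniq' : ∀ K : Subgroup G, K ≤ C → Nat.card K = s → K = (T : Subgroup C).map C.subtype := by
    intro K hK hKc
    obtain ⟨P, hP⟩ := exists_sylow_eq hsC h2C (H := K.subgroupOf C)
      (by rw [Nat.card_congr (subgroupOfEquivOfLe hK).toEquiv, hKc])
    rw [Subsingleton.elim T P, hP, subgroupOf_map_subtype, inf_eq_left.2 hK]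
  have hle : normalizer (sub G r : Set G) ≤
      normalizer (((T : Subgroup C).map C.subtype : Subgroup G) : Set G) := by
    intro g hg
    have hCg : C.map (MulAut.conj g).toMonoidHom = C := by
      rw [hC, ← centralizer_map]
      congr 2
      ext y
      simp only [mem_map, MulEquiv.coe_toMonoidHom, MulAut.conj_apply]
      constructor
      · rintro ⟨z, hz, rfl⟩
        exact (mem_normalizer_iff.1 hg z).1 hz
      · intro hy
        refine ⟨g⁻¹ * y * g, ?_, by group⟩
        refine (mem_normalizer_iff.1 hg _).2 ?_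
        simpa [mul_assoc] using hy
    have hfix : ((T : Subgroup C).map C.subtype).map (MulAut.conj g).toMonoidHom =
        (T : Subgroup C).map C.subtype := by
      refine huniq' _ ?_ ?_
      · exact (map_mono (map_subtype_le _)).trans hCg.le
      · rw [card_map_of_injective (MulEquiv.injective _), hT]
    rw [mem_normalizer_iff]
    intro y
    conv_rhs => rw [← hfix]
    simp only [mem_map, MulEquiv.coe_toMonoidHom, MulAut.conj_apply]
    constructor
    · exact fun hy => ⟨y, hy, rfl⟩
    · rintro ⟨z, hz, hzy⟩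
      rwa [← mul_left_cancel (mul_right_cancel hzy)]
  exact ⟨_, hT, hle⟩

theorem data_forced_mod {r s : ℕ} [hr : Fact r.Prime] [hs : Fact s.Prime] (hne : r ≠ s)
    (hdr : r ∣ Nat.card G) (h2r : ¬ r ^ 2 ∣ Nat.card G)
    (hds : s ∣ Nat.card G) (h2s : ¬ s ^ 2 ∣ Nat.card G)
    (h : s ∣ (data G r).2.2) (hk : ∀ k, k ∣ (data G r).2.2 / s → k % s = 1 → k = 1) :
    s * (data G s).2.1 * (data G s).2.2 % (r * (data G r).2.1 * (data G r).2.2) = 0 ∧
      s * (data G s).2.1 * (data G s).2.2 / (r * (data G r).2.1 * (data G r).2.2) % r = 1 := by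
  obtain ⟨K, hK, hle⟩ := normalizer_le_forced hne hdr h2r h2s h hk
  set P := sub G r with hP
  have hPc : Nat.card P = r := card_sub hdr
  have hM := (data_spec hds h2s hK).2.1
  have hN := (data_spec hdr h2r hPc).2.1
  set M := normalizer (K : Set G) with hMdef
  have hPM : P ≤ M := le_normalizer.trans hle
  have hdM : r ∣ Nat.card M := hPc ▸ card_dvd_of_le hPM
  obtain ⟨T, hT⟩ := exists_sylow_eq hdM (fun h' => h2r (h'.trans M.card_subgroup_dvd_card))
    (H := P.subgroupOf M) (by rw [Nat.card_congr (subgroupOfEquivOfLe hPM).toEquiv, hPc])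
  have h1 := T.card_eq_index_normalizer
  have h2 := card_sylow_modEq_one r M
  rw [Nat.ModEq, Nat.mod_eq_of_lt hr.out.one_lt, h1, ← T.coe_coe, hT] at h2
  have h3 : (normalizer (P : Set G)).subgroupOf M =
      normalizer ((P.subgroupOf M : Subgroup M) : Set M) := by
    ext x
    rw [mem_subgroupOf, mem_normalizer_iff, mem_normalizer_iff]
    constructor
    · intro hx y
      exact hx y
    · intro hx y
      by_cases hy : y ∈ M
      · exact hx ⟨y, hy⟩
      · refine ⟨fun hP' => absurd (hPM hP') hy, fun hP' => absurd ?_ hy⟩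
        have := M.mul_mem (M.mul_mem (M.inv_mem x.2) (hPM hP')) x.2
        simpa [mul_assoc] using this
  have h4 := ((normalizer (P : Set G)).subgroupOf M).card_mul_index
  rw [Nat.card_congr (subgroupOfEquivOfLe hle).toEquiv, hN, hM, h3] at h4
  have hpos : 0 < r * (data G r).2.1 * (data G r).2.2 := hN ▸ Nat.card_pos
  rw [← h4, Nat.mul_mod_right, Nat.mul_div_cancel_left _ hpos]
  exact ⟨rfl, h2⟩

variable (G) in
/-- The involutions. -/
def invSet : Set G := {u | orderOf u = 2}

theorem card_invSet_mul {t : G} (ht : orderOf t = 2) (hone : ∀ u v : G, orderOf u = 2 → orderOf v = 2 → IsConj u v) :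
    (invSet G).ncard * Nat.card (centralizer ({t} : Set G)) = Nat.card G := by
  have e : MulAction.orbit (ConjAct G) t = invSet G := by
    ext v
    constructor
    · rintro ⟨g, rfl⟩
      show orderOf (g • t) = 2
      rw [ConjAct.smul_def, ← ht]
      exact MulEquiv.orderOf_eq (MulAut.conj (ConjAct.ofConjAct g)) t
    · intro hv
      obtain ⟨g, hg⟩ := isConj_iff.1 (hone t v ht hv)
      refine ⟨ConjAct.toConjAct g, ?_⟩
      show ConjAct.toConjAct g • t = v
      rw [ConjAct.toConjAct_smul, hg]
  have e2 : Nat.card (MulAction.stabilizer (ConjAct G) t) =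
      Nat.card (centralizer ({t} : Set G)) := by
    refine Nat.card_congr (Equiv.subtypeEquiv ConjAct.ofConjAct.toEquiv fun g => ?_)
    rw [MulAction.mem_stabilizer_iff, ConjAct.smul_def, MulEquiv.toEquiv_eq_coe,
      MulEquiv.coe_toEquiv, mem_centralizer_singleton_iff, mul_inv_eq_iff_eq_mul]
  have h := (MulAction.stabilizer (ConjAct G) t).card_mul_index
  rw [MulAction.index_stabilizer, e, e2] at h
  rw [mul_comm, h]
  exact Nat.card_congr ConjAct.ofConjAct.toEquiv

/-- The involutions centralizing a subgroup. -/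
def invIn (P : Subgroup G) : Set G := {u | orderOf u = 2 ∧ u ∈ centralizer (P : Set G)}

theorem invIn_ncard_map (P : Subgroup G) (g : G) :
    (invIn (P.map (MulAut.conj g).toMonoidHom)).ncard = (invIn P).ncard := by
  have e : invIn (P.map (MulAut.conj g).toMonoidHom) = (MulAut.conj g) '' invIn P := by
    ext u
    simp only [invIn, Set.mem_ofPred_eq, Set.mem_image, centralizer_map, mem_map,
      MulEquiv.coe_toMonoidHom]
    constructor
    · rintro ⟨h, x, hx, rfl⟩
      exact ⟨x, ⟨by rwa [MulEquiv.orderOf_eq] at h, hx⟩, rfl⟩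
    · rintro ⟨x, ⟨h, hx⟩, rfl⟩
      exact ⟨by rw [MulEquiv.orderOf_eq]; exact h, x, hx, rfl⟩
  rw [e, Set.ncard_image_of_injective _ (MulAut.conj g).injective]

theorem invIn_odd {P : Subgroup G} (h : 2 ∣ Nat.card (centralizer (P : Set G))) :
    (invIn P).ncard % 2 = 1 := by
  haveI : Fact (Nat.Prime 2) := ⟨Nat.prime_two⟩
  set C := centralizer (P : Set G) with hC
  haveI := Fintype.ofFinite C
  let f : Function.End C := fun x => x⁻¹
  have hf : f ^ 2 ^ 1 = 1 := by
    funext x
    show (x⁻¹)⁻¹ = x
    rw [inv_inv]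
  have h1 := Equiv.Perm.card_fixedPoints_modEq hf
  have h2 : Fintype.card C % 2 = 0 := by
    rw [← Nat.card_eq_fintype_card]; exact Nat.mod_eq_zero_of_dvd h
  have h3 : Fintype.card (Function.fixedPoints f) = (invIn P).ncard + 1 := by
    have e : Subtype.val '' (Function.fixedPoints f) = insert 1 (invIn P) := by
      ext u
      simp only [Set.mem_image, Function.mem_fixedPoints, Function.IsFixedPt, Set.mem_insert_iff,
        invIn, Set.mem_ofPred_eq]
      constructor
      · rintro ⟨x, hx, rfl⟩
        by_cases h1 : (x : G) = 1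
        · exact Or.inl h1
        refine Or.inr ⟨orderOf_eq_prime ?_ h1, x.2⟩
        have hx' : ((x : G))⁻¹ = x := congrArg Subtype.val hx
        rw [sq]
        conv_lhs => arg 1; rw [← hx']
        rw [inv_mul_cancel]
      · rintro (rfl | ⟨h1, hu⟩)
        · exact ⟨1, inv_one, rfl⟩
        · refine ⟨⟨u, hu⟩, Subtype.ext ?_, rfl⟩
          show u⁻¹ = u
          apply inv_eq_of_mul_eq_one_right
          rw [← sq, ← h1, pow_orderOf_eq_one]
    rw [← Nat.card_eq_fintype_card, Nat.card_coe_set_eq,
      ← Set.ncard_image_of_injective _ Subtype.val_injective, e,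
      Set.ncard_insert_of_notMem (fun h => by simp [invIn] at h)]
  rw [Nat.ModEq, h2, h3] at h1
  omega

theorem invIn_lt {r : ℕ} [hr : Fact r.Prime] (hr2 : r ≠ 2) (hd : r ∣ Nat.card G)
    (h2 : ¬ r ^ 2 ∣ Nat.card G) {P : Subgroup G} (hP : Nat.card P = r) :
    (invIn P).ncard < (data G r).2.2 := by
  set C := centralizer (P : Set G) with hC
  have hquot : Nat.card (C ⧸ P.subgroupOf C) = (data G r).2.2 := by
    refine mul_left_cancel₀ hr.out.pos.ne' ?_
    rw [← (data_spec hd h2 hP).1, ← (P.subgroupOf C).card_mul_index, ← index_eq_card,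
      Nat.card_congr (subgroupOfEquivOfLe (le_centralizer_self hP)).toEquiv, hP]
  let S : Set C := {x | (x : G) * x = 1}
  have h1 : Nat.card S ≤ Nat.card (C ⧸ P.subgroupOf C) := by
    refine Nat.card_le_card_of_injective (fun x => QuotientGroup.mk x.1) ?_
    rintro ⟨a, ha⟩ ⟨b, hb⟩ hab
    have hab' : a⁻¹ * b ∈ P.subgroupOf C := QuotientGroup.eq.1 hab
    rw [mem_subgroupOf, coe_mul, InvMemClass.coe_inv] at hab'
    set z := (a : G)⁻¹ * b with hz
    have haz : Commute (a : G) z := (mem_centralizer_iff.1 a.2 z hab').symm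
    have hbz : (b : G) = a * z := by rw [hz]; group
    have hz2 : z * z = 1 := by
      have hb' : (b : G) * b = 1 := hb
      have ha' : (a : G) * a = 1 := ha
      calc z * z = (a : G) * a * (z * z) := by rw [ha', one_mul]
        _ = (a : G) * (a * z) * z := by simp only [mul_assoc]
        _ = (a : G) * (z * a) * z := by rw [haz.eq]
        _ = (b : G) * b := by rw [hbz]; simp only [mul_assoc]
        _ = 1 := hb'
    have hz1 : orderOf z ∣ 2 := orderOf_dvd_of_pow_eq_one (by rw [sq, hz2])
    have hzr : orderOf z ∣ r := hP ▸ Subgroup.orderOf_dvd_natCard _ hab'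
    have : orderOf z = 1 := by
      have := Nat.dvd_gcd hz1 hzr
      rwa [(Nat.coprime_primes Nat.prime_two hr.out).2 (Ne.symm hr2), Nat.dvd_one] at this
    apply Subtype.ext; apply Subtype.ext
    show (a : G) = b
    rw [hbz, orderOf_eq_one_iff.1 this, mul_one]
  have h3 : (invIn P).ncard + 1 ≤ Nat.card S := by
    rw [Nat.card_coe_set_eq, ← Set.ncard_image_of_injective S Subtype.val_injective,
      ← Set.ncard_insert_of_notMem (show (1 : G) ∉ invIn P from fun h => by simp [invIn] at h)]
    refine Set.ncard_le_ncard ?_ (Set.toFinite _)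
    rintro u (rfl | ⟨hu, huC⟩)
    · exact ⟨1, mul_one 1, rfl⟩
    · exact ⟨⟨u, huC⟩, by show u * u = 1; rw [← sq, ← hu, pow_orderOf_eq_one], rfl⟩
  omega

/-- The Sylow subgroups centralized by `t`. -/
def sylCent (r : ℕ) (t : G) : Set (Sylow r G) := {Q | t ∈ centralizer ((Q : Subgroup G) : Set G)}

theorem incidence {r : ℕ} [hr : Fact r.Prime] (hd : r ∣ Nat.card G) (h2 : ¬ r ^ 2 ∣ Nat.card G)
    {t : G} (ht : orderOf t = 2) (hone : ∀ u v : G, orderOf u = 2 → orderOf v = 2 → IsConj u v) :
    (data G r).1 * (invIn (sub G r)).ncard = (invSet G).ncard * (sylCent r t).ncard := by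
  haveI := Fintype.ofFinite G
  haveI := Fintype.ofFinite (Sylow r G)
  have hS := card_sub (G := G) hd
  have hconst : ∀ u : G, orderOf u = 2 → (sylCent r u).ncard = (sylCent r t).ncard := by
    intro u hu
    obtain ⟨g, hg⟩ := isConj_iff.1 (hone t u ht hu)
    have e : sylCent r u = (fun Q : Sylow r G => g • Q) '' sylCent r t := by
      ext Q
      simp only [sylCent, Set.mem_image, Set.mem_ofPred_eq]
      constructor
      · intro hQ
        refine ⟨g⁻¹ • Q, ?_, smul_inv_smul g Q⟩
        rw [Sylow.coe_subgroup_smul, show MulAut.conj g⁻¹ • (Q : Subgroup G) =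
          (Q : Subgroup G).map (MulAut.conj g⁻¹).toMonoidHom from rfl, centralizer_map]
        exact ⟨u, hQ, by
          rw [MulEquiv.coe_toMonoidHom, MulAut.conj_apply, ← hg]; group⟩
      · rintro ⟨R, hR, rfl⟩
        rw [Sylow.coe_subgroup_smul, show MulAut.conj g • (R : Subgroup G) =
          (R : Subgroup G).map (MulAut.conj g).toMonoidHom from rfl, centralizer_map]
        exact ⟨t, hR, by rw [MulEquiv.coe_toMonoidHom, MulAut.conj_apply, hg]⟩
    rw [e, Set.ncard_image_of_injective _ (MulAction.injective g)]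
  have hQ : ∀ Q : Sylow r G, (invIn (Q : Subgroup G)).ncard = (invIn (sub G r)).ncard := by
    intro Q
    obtain ⟨g, hg⟩ := exists_conj hd h2 hS (card_sylow' hd h2 Q)
    rw [← hg, invIn_ncard_map]
  let R : Sylow r G → G → Prop := fun Q u => u ∈ centralizer ((Q : Subgroup G) : Set G)
  let I : Finset G := Finset.univ.filter fun u => orderOf u = 2
  have key := Finset.sum_card_bipartiteAbove_eq_sum_card_bipartiteBelow R
    (s := (Finset.univ : Finset (Sylow r G))) (t := I)
  have hl : ∀ Q : Sylow r G, (I.bipartiteAbove R Q).card = (invIn (sub G r)).ncard := by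
    intro Q
    rw [← hQ Q, ← Set.ncard_coe_finset]
    congr 1
    ext u
    simp [Finset.bipartiteAbove, I, R, invIn]
  have hr' : ∀ u ∈ I, ((Finset.univ : Finset (Sylow r G)).bipartiteBelow R u).card =
      (sylCent r t).ncard := by
    intro u hu
    rw [← hconst u (Finset.mem_filter.1 hu).2, ← Set.ncard_coe_finset]
    congr 1
    ext Q
    simp [Finset.bipartiteBelow, R, sylCent]
  rw [Finset.sum_congr rfl (fun Q _ => hl Q), Finset.sum_congr rfl hr', Finset.sum_const,
    Finset.sum_const, smul_eq_mul, smul_eq_mul, Finset.card_univ] at key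
  rw [(data_spec hd h2 hS).2.2.2.1, Nat.card_eq_fintype_card, key]
  congr 1
  rw [← Set.ncard_coe_finset]
  congr 1
  ext u
  simp [I, invSet]

theorem sylCent_spec {r : ℕ} [hr : Fact r.Prime] (hr2 : r ≠ 2) (hd : r ∣ Nat.card G)
    (h2 : ¬ r ^ 2 ∣ Nat.card G) {t : G} (ht : orderOf t = 2) (hne : (sylCent r t).Nonempty) :
    (sylCent r t).ncard % r = 1 ∧
      (sylCent r t).ncard * (2 * r) ∣ Nat.card (centralizer ({t} : Set G)) ∧
      Nat.card (Sylow r (centralizer ({t} : Set G))) = (sylCent r t).ncard := by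
  set C := centralizer ({t} : Set G) with hC
  have hle : ∀ Q : Sylow r G, Q ∈ sylCent r t ↔ (Q : Subgroup G) ≤ C := by
    intro Q
    simp only [sylCent, Set.mem_ofPred_eq, hC, mem_centralizer_iff, SetLike.le_def,
      Set.mem_singleton_iff, forall_eq, SetLike.mem_coe]
    exact ⟨fun h x hx => (h x hx).symm, fun h x hx => (h hx).symm⟩
  obtain ⟨Q₀, hQ₀⟩ := hne
  have hQC := (hle Q₀).1 hQ₀
  have hdC : r ∣ Nat.card C := card_sylow' hd h2 Q₀ ▸ card_dvd_of_le hQC
  have h2C : ¬ r ^ 2 ∣ Nat.card C := fun h' => h2 (h'.trans C.card_subgroup_dvd_card)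
  have hmap : ∀ T : Sylow r C, Nat.card ((T : Subgroup C).map C.subtype) = r := fun T => by
    rw [card_map_of_injective C.subtype_injective, card_sylow' hdC h2C T]
  choose f hf using fun T : Sylow r C => exists_sylow_eq hd h2 (hmap T)
  have hinj : Function.Injective f := fun a b e => Sylow.ext
    (map_injective C.subtype_injective (by rw [← hf a, ← hf b, e]))
  have hrange : Set.range f = sylCent r t := by
    ext Q
    constructor
    · rintro ⟨T, rfl⟩
      rw [hle, hf]
      exact map_subtype_le _
    · intro hQ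
      rw [hle] at hQ
      obtain ⟨T, hT⟩ := exists_sylow_eq hdC h2C (H := (Q : Subgroup G).subgroupOf C)
        (by rw [Nat.card_congr (subgroupOfEquivOfLe hQ).toEquiv, card_sylow' hd h2 Q])
      exact ⟨T, Sylow.ext (by rw [hf, hT, subgroupOf_map_subtype, inf_eq_left.2 hQ])⟩
  have hcard : Nat.card (Sylow r C) = (sylCent r t).ncard := by
    rw [← hrange, ← Nat.card_coe_set_eq, Nat.card_range_of_injective hinj]
  refine ⟨?_, ?_, hcard⟩
  · have := card_sylow_modEq_one r C
    rwa [Nat.ModEq, Nat.mod_eq_of_lt hr.out.one_lt, hcard] at this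
  · obtain ⟨T⟩ : Nonempty (Sylow r C) := inferInstance
    have hT := card_sylow' hdC h2C T
    rw [← hcard, T.card_eq_index_normalizer, ← T.coe_coe]
    conv_rhs => rw [← index_mul_card (normalizer ((T : Subgroup C) : Set C))]
    refine mul_dvd_mul_left _ (Nat.Coprime.mul_dvd_of_dvd_of_dvd
      ((Nat.coprime_primes Nat.prime_two hr.out).2 (Ne.symm hr2)) ?_ ?_)
    · have htN : (⟨t, mem_centralizer_singleton_iff.2 rfl⟩ : C) ∈
          normalizer ((T : Subgroup C) : Set C) := by
        refine centralizer_le_normalizer _ (mem_centralizer_iff.2 fun y _ => Subtype.ext ?_)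
        exact mem_centralizer_singleton_iff.1 y.2
      have := Subgroup.orderOf_dvd_natCard _ htN
      rwa [Subgroup.orderOf_mk, ht] at this
    · have := card_dvd_of_le (le_normalizer (H := (T : Subgroup C)))
      rwa [hT] at this

end CfsgLib.J1Local
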