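import Cfsg.Agent.J1Local.Check
import Cfsg.Agent.J1Local.Basic

/-!
The numerical data of a simple group of order `175560`.
-/

set_option autoImplicit false
set_option linter.style.haveILetI false
set_option linter.unusedSectionVars false

namespace CfsgLib.J1Local

open Subgroup CfsgLib.SolvCrit.Order175560
open CfsgLib.SolvCrit.OrderCheck (cand options indep weight Data)
open scoped Classical

variable {G : Type*} [Group G] [Finite G]

theorem eight_mul_filter_prod : ∀ n ∈ cand, n % 8 = 0 →
    n = 8 * (([3, 5, 7, 11, 19] : List ℕ).filter fun r => n % r == 0).prod := by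
  decide +kernel

theorem prime_of_mem' (hG : Nat.card G = 175560) {r : ℕ} (hr : r ∈ ([3, 5, 7, 11, 19] : List ℕ)) :
    r.Prime ∧ r ∣ Nat.card G ∧ ¬ r ^ 2 ∣ Nat.card G ∧ r ≠ 2 := by
  obtain ⟨h1, h2⟩ := prime_of_mem hr
  refine ⟨h1, ?_, hG ▸ h2, ?_⟩ <;>
  · simp only [List.mem_cons, List.not_mem_nil, or_false] at hr
    rcases hr with rfl | rfl | rfl | rfl | rfl <;> norm_num [hG]

/-- The number of elements counted by an independent family. -/
theorem weight_le (hG : Nat.card G = 175560) : ∀ L : List (ℕ × Data),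
    (∀ a ∈ L, a.1 ∈ ([3, 5, 7, 11, 19] : List ℕ) ∧ a.2 = data G a.1) →
    (L.map Prod.fst).Nodup → ∀ s ∈ indep L,
    (∀ a ∈ s, a ∈ L) ∧ weight s ≤ Nat.card (⋃ a ∈ s, sing G a.1 : Set G) := by
  intro L
  induction L with
  | nil => intro _ _ s hs; simp_all [indep, weight]
  | cons a L ih =>
    intro hL' hnd s hs
    rw [List.map_cons, List.nodup_cons] at hnd
    have ih' := ih (fun x hx => hL' x (List.mem_cons_of_mem _ hx)) hnd.2
    simp only [indep, List.mem_append, List.mem_map, List.mem_filter] at hs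
    rcases hs with hs | ⟨t, ⟨ht, htc⟩, rfl⟩
    · exact ⟨fun x hx => List.mem_cons_of_mem _ ((ih' s hs).1 x hx), (ih' s hs).2⟩
    obtain ⟨htm, htw⟩ := ih' t ht
    refine ⟨fun x hx => ?_, ?_⟩
    · rcases List.mem_cons.1 hx with rfl | hx
      · exact List.mem_cons_self
      · exact List.mem_cons_of_mem _ (htm x hx)
    obtain ⟨ha1, ha2⟩ := hL' a List.mem_cons_self
    obtain ⟨hap, haN, ha3, -⟩ := prime_of_mem' hG ha1
    haveI := Fact.mk hap
    have hdisj : Disjoint (sing G a.1) (⋃ b ∈ t, sing G b.1) := by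
      rw [Set.disjoint_left]
      intro x hxa hxb
      simp only [Set.mem_iUnion] at hxb
      obtain ⟨b, hb, hxb⟩ := hxb
      obtain ⟨hb1, hb2⟩ := hL' b (List.mem_cons_of_mem _ (htm b hb))
      obtain ⟨hbp, hbN, hb3, -⟩ := prime_of_mem' hG hb1
      haveI := Fact.mk hbp
      have hne : a.1 ≠ b.1 := fun h => hnd.1 (h ▸ List.mem_map.2 ⟨b, htm b hb, rfl⟩)
      simp only [List.all_eq_true, Bool.and_eq_true, bne_iff_ne] at htc
      refine (htc b hb).1 (Nat.mod_eq_zero_of_dvd ?_)
      rw [ha2]
      exact dvd_c_of_commute hne haN ha3 hxa hxb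
    have hsplit : (⋃ b ∈ a :: t, sing G b.1 : Set G) = sing G a.1 ∪ ⋃ b ∈ t, sing G b.1 := by
      ext x; simp
    rw [hsplit, Nat.card_coe_set_eq, Set.ncard_union_eq hdisj (Set.toFinite _) (Set.toFinite _),
      ← Nat.card_coe_set_eq, ← Nat.card_coe_set_eq]
    have := mul_le_card_sing (G := G) haN ha3
    rw [← ha2] at this
    simp only [weight, List.map_cons, List.sum_cons] at htw ⊢
    exact add_le_add this htw

variable [IsSimpleGroup G]

theorem exists_data (hab : ¬ IsMulCommutative G) (hG : Nat.card G = 175560) :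
    ∃ t : G, orderOf t = 2 ∧ (∃ S : Sylow 2 G, t ∈ S ∧ (S : Subgroup G) ≤ centralizer ({t} : Set G)) ∧
      Nat.card (centralizer ({t} : Set G)) = 120 ∧
      Nat.card (Sylow 5 (centralizer ({t} : Set G))) = 6 ∧ (invSet G).ncard = 1463 := by
  haveI : Fact (Nat.Prime 2) := ⟨Nat.prime_two⟩
  have h16 : ¬ 16 ∣ Nat.card G := by rw [hG]; norm_num
  obtain ⟨S⟩ : Nonempty (Sylow 2 G) := inferInstance
  have h8 : Nat.card (S : Subgroup G) = 8 := by
    obtain ⟨H, hH⟩ := Sylow.exists_subgroup_card_pow_prime (G := G) 2 (n := 3)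
      (by rw [hG]; norm_num)
    obtain ⟨P, hP⟩ := (IsPGroup.of_card hH).exists_le_sylow
    rw [← Nat.card_congr (Sylow.equiv P S).toEquiv]
    obtain ⟨k, hk⟩ := IsPGroup.iff_card.1 P.isPGroup'
    have h1 : 2 ^ k ∣ 175560 := hG ▸ hk ▸ card_subgroup_dvd_card _
    have h2 : (2 : ℕ) ^ 3 ∣ 2 ^ k := hk ▸ hH ▸ card_dvd_of_le hP
    have h3 := (Nat.pow_dvd_pow_iff_le_right (by norm_num)).1 h2
    have h4 : k < 4 := by
      by_contra h
      exact absurd ((pow_dvd_pow 2 (show 4 ≤ k by omega)).trans h1) (by norm_num)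
    rw [hk, show k = 3 by omega]; norm_num
  have hone : ∀ u v : G, orderOf u = 2 → orderOf v = 2 → IsConj u v := fun u v hu hv =>
    isConj_involutions hab h16 S h8 hu hv
  -- an involution central in a Sylow 2-subgroup
  obtain ⟨t, ht, htS', htS⟩ : ∃ t : G, orderOf t = 2 ∧ t ∈ S ∧
      (S : Subgroup G) ≤ centralizer ({t} : Set G) := by
    haveI : Nontrivial (S : Subgroup G) := (Finite.one_lt_card_iff_nontrivial).1 (by rw [h8]; norm_num)
    haveI := (S.isPGroup').center_nontrivial
    obtain ⟨z, hz⟩ := exists_prime_orderOf_dvd_card' (G := Subgroup.center (S : Subgroup G)) 2 (by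
      obtain ⟨k, hk⟩ := IsPGroup.iff_card.1 (S.isPGroup'.to_subgroup (Subgroup.center (S : Subgroup G)))
      have : 1 < Nat.card (Subgroup.center (S : Subgroup G)) := Finite.one_lt_card
      rcases k with _ | k
      · simp [hk] at this
      · rw [hk]; exact dvd_pow_self 2 (Nat.succ_ne_zero k))
    refine ⟨((z : (S : Subgroup G)) : G), by rw [orderOf_coe, orderOf_coe, hz], z.1.2, fun g hg => ?_⟩
    rw [mem_centralizer_singleton_iff]
    exact congrArg Subtype.val (Subgroup.mem_center_iff.1 z.2 ⟨g, hg⟩)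
  set C := centralizer ({t} : Set G) with hC
  have hCmul := card_invSet_mul ht hone
  have h8C : 8 ∣ Nat.card C := h8 ▸ card_dvd_of_le htS
  have hCu : ∀ u : G, orderOf u = 2 → Nat.card (centralizer ({u} : Set G)) = Nat.card C := by
    intro u hu
    have := card_invSet_mul hu hone
    rw [← hCmul] at this
    refine mul_left_cancel₀ ?_ this
    intro h0
    rw [h0, zero_mul, hG] at hCmul
    omega
  have hpos : 0 < (invSet G).ncard := by
    rw [Set.ncard_pos]; exact ⟨t, ht⟩
  -- the parity of the centralizers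
  have heven : ∀ r ∈ ([3, 5, 7, 11, 19] : List ℕ),
      r ∣ Nat.card C ↔ (data G r).2.2 % 2 = 0 := by
    intro r hr
    obtain ⟨hrp, hrN, hr2, hr'⟩ := prime_of_mem' hG hr
    haveI := Fact.mk hrp
    have hS := card_sub (G := G) hrN
    constructor
    · intro h
      obtain ⟨y, hy⟩ := exists_prime_orderOf_dvd_card' (G := C) r h
      have hcomm : Commute t (y : G) := (mem_centralizer_singleton_iff.1 y.2).symm
      have hoy : orderOf (y : G) = r := by rw [orderOf_coe, hy]
      have ho : orderOf (t * y) = 2 * r := by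
        rw [hcomm.orderOf_mul_eq_mul_orderOf_of_coprime (by
          rw [ht, hoy]; exact (Nat.coprime_primes Nat.prime_two hrp).2 (Ne.symm hr')), ht, hoy]
      exact Nat.mod_eq_zero_of_dvd (dvd_c_of_commute hr' hrN hr2 (x := t * y)
        (ho ▸ dvd_mul_left r 2) (ho ▸ dvd_mul_right 2 r))
    · intro h
      obtain ⟨y, hy⟩ := exists_prime_orderOf_dvd_card' (G := centralizer (sub G r : Set G)) 2 (by
        rw [(data_spec hrN hr2 hS).1]; exact (Nat.dvd_of_mod_eq_zero h).mul_left r)
      have hoy : orderOf (y : G) = 2 := by rw [orderOf_coe, hy]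
      have hle : sub G r ≤ centralizer ({(y : G)} : Set G) := fun x hx => by
        rw [mem_centralizer_singleton_iff]
        exact mem_centralizer_iff.1 y.2 x hx
      have := card_dvd_of_le hle
      rwa [hS, hCu y hoy] at this
  set L : List ℕ := [3, 5, 7, 11, 19] with hLdef
  set l := L.map fun r => (r, data G r) with hl
  have hall : ∀ a ∈ l, a.1 ∈ L ∧ a.2 = data G a.1 := by
    intro a ha
    obtain ⟨r, hr, rfl⟩ := List.mem_map.1 ha
    exact ⟨hr, rfl⟩
  have hmem : l ∈ Check.search L := by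
    refine Check.mem_search L (fun r hr => ?_) ?_
    · obtain ⟨hrp, hrN, hr2, -⟩ := prime_of_mem' hG hr
      haveI := Fact.mk hrp
      have := data_mem_options hab (dvd_of_eq hG) hrN hr2
      rwa [hG] at this
    · have hL : L.Pairwise (· ≠ ·) := by rw [hLdef]; decide
      refine hL.imp_of_mem fun {r s} hr hs hne => ?_
      obtain ⟨hrp, hrN, hr2, -⟩ := prime_of_mem' hG hr
      obtain ⟨hsp, hsN, hs2, -⟩ := prime_of_mem' hG hs
      have hforced : ∀ {a b : ℕ} (hap : a.Prime) (hbp : b.Prime), a ≠ b → a ∣ Nat.card G →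
          ¬ a ^ 2 ∣ Nat.card G → b ∣ Nat.card G → ¬ b ^ 2 ∣ Nat.card G →
          Check.forcedTwo (a, data G a) (b, data G b) = true := by
        intro a b hap hbp hne haN ha2 hbN hb2
        haveI := Fact.mk hap
        haveI := Fact.mk hbp
        simp only [Check.forcedTwo, Check.nrm, Bool.or_eq_true, bne_iff_ne, List.any_eq_true,
          Bool.and_eq_true, beq_iff_eq]
        by_cases hdv : (data G a).2.2 % b = 0
        swap
        · exact Or.inl hdv
        refine Or.inr (Classical.or_iff_not_imp_left.2 fun hno => ?_)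
        refine data_forced_mod hne haN ha2 hbN hb2 (Nat.dvd_of_mod_eq_zero hdv) fun k hk hk1 => ?_
        by_contra hk'
        refine hno ⟨k, mem_cand (dvd_trans ?_ (dvd_of_eq hG)), ⟨hk', Nat.mod_eq_zero_of_dvd hk⟩, hk1⟩
        exact (hk.trans (Nat.div_dvd_of_dvd (Nat.dvd_of_mod_eq_zero hdv))).trans
          (Dvd.intro_left _ ((data_spec haN ha2 (card_sub haN)).2.2.1.trans
            (mul_assoc _ _ _).symm).symm)
      simp only [Check.compat, Bool.and_eq_true, beq_iff_eq]
      refine ⟨⟨Bool.eq_iff_iff.2 ?_, hforced hrp hsp hne hrN hr2 hsN hs2⟩,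
        hforced hsp hrp (Ne.symm hne) hsN hs2 hrN hr2⟩
      haveI := Fact.mk hrp
      haveI := Fact.mk hsp
      simp only [beq_iff_eq, ← Nat.dvd_iff_mod_eq_zero]
      exact ⟨dvd_c_symm hne hrN hr2 hsN hs2, dvd_c_symm (Ne.symm hne) hsN hs2 hrN hr2⟩
  have hcardC : Nat.card C = 8 * Check.oddPart l := by
    rw [eight_mul_filter_prod _ (mem_cand (hG ▸ C.card_subgroup_dvd_card))
      (Nat.mod_eq_zero_of_dvd h8C), Check.oddPart, hl, List.filter_map, List.map_map,
      show (Prod.fst ∘ fun r => (r, data G r)) = id from rfl, List.map_id]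
    congr 2
    refine List.filter_congr fun r hr => Bool.eq_iff_iff.2 ?_
    simp only [Function.comp_apply, beq_iff_eq]
    rw [← heven r hr, Nat.dvd_iff_mod_eq_zero]
  have hinvol : Check.invol l = (invSet G).ncard := by
    rw [Check.invol, ← hcardC, Check.ord, ← hG, ← hCmul, Nat.mul_div_cancel _ Nat.card_pos]
  have hm1 : 1 < (invSet G).ncard := by
    by_contra h
    have h1 : (invSet G).ncard = 1 := by omega
    rw [h1, one_mul] at hCmul
    have h2 : C = ⊤ := Subgroup.eq_top_of_card_eq _ hCmul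
    have htc : t ∈ Subgroup.center G := Subgroup.mem_center_iff.2 fun g =>
      mem_centralizer_singleton_iff.1 (h2 ▸ mem_top g : g ∈ C)
    rcases (inferInstance : (Subgroup.center G).Normal).eq_bot_or_eq_top with h3 | h3
    · rw [h3, mem_bot] at htc
      rw [htc, orderOf_one] at ht
      omega
    · exact hab ⟨⟨fun a b => (Subgroup.mem_center_iff.1 (h3 ▸ mem_top a : a ∈ Subgroup.center G) b).symm⟩⟩
  -- the incidence count
  have hinc : ∀ r ∈ L, (data G r).2.2 % 2 = 0 → ∃ i n, i % 2 = 1 ∧ i < (data G r).2.2 ∧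
      (invIn (sub G r)).ncard = i ∧ (data G r).1 * i = Check.invol l * n ∧ n % r = 1 ∧
      4 * Check.oddPart l % (n * r) = 0 ∧ Nat.card (Sylow r C) = n := by
    intro r hr hc
    obtain ⟨hrp, hrN, hr2, hr'⟩ := prime_of_mem' hG hr
    haveI := Fact.mk hrp
    have hS := card_sub (G := G) hrN
    have hd := data_spec hrN hr2 hS
    have hodd : (invIn (sub G r)).ncard % 2 = 1 := invIn_odd (by
      rw [hd.1]; exact (Nat.dvd_of_mod_eq_zero hc).mul_left r)
    have hI := incidence hrN hr2 ht hone
    have hne : (sylCent r t).Nonempty := by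
      rw [Set.nonempty_iff_ne_empty]
      intro h0
      rw [h0, Set.ncard_empty, mul_zero] at hI
      rcases Nat.mul_eq_zero.1 hI with h1 | h1
      · rw [hd.2.2.1, h1, zero_mul] at hG; omega
      · omega
    obtain ⟨h1, h2, h3⟩ := sylCent_spec hr' hrN hr2 ht hne
    refine ⟨_, _, hodd, invIn_lt hr' hrN hr2 hS, rfl, hinvol.symm ▸ hI, h1, ?_, h3⟩
    refine Nat.mod_eq_zero_of_dvd ?_
    refine (Nat.mul_dvd_mul_iff_left (show 0 < 2 by norm_num)).1 ?_
    rw [← hC, hcardC] at h2
    calc 2 * ((sylCent r t).ncard * r) = (sylCent r t).ncard * (2 * r) := by ring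
      _ ∣ 8 * Check.oddPart l := h2
      _ = 2 * (4 * Check.oddPart l) := by ring
  have hok : Check.ok l = true := by
    simp only [Check.ok, Bool.and_eq_true, decide_eq_true_eq, List.all_eq_true]
    refine ⟨⟨hinvol.symm ▸ hm1, ?_⟩, ?_⟩
    · intro a ha
      obtain ⟨r, hr, rfl⟩ := List.mem_map.1 ha
      simp only [Check.incOK, Bool.or_eq_true, beq_iff_eq, List.any_eq_true, List.mem_range,
        Bool.and_eq_true]
      rcases Nat.mod_two_eq_zero_or_one (data G r).2.2 with hc | hc
      swap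
      · exact Or.inl hc
      obtain ⟨i, n, h1, h2, -, h3, h4, h5, -⟩ := hinc r hr hc
      have hq : (data G r).1 * i / Check.invol l = n := by
        rw [h3, Nat.mul_div_cancel_left _ (hinvol.symm ▸ hpos)]
      exact Or.inr ⟨i, h2, ⟨⟨⟨h1, by rw [h3, Nat.mul_mod_right]⟩, by rw [hq]; exact h4⟩,
        by rw [hq]; exact h5⟩⟩
    · simp only [Check.countTwo, List.all_eq_true, decide_eq_true_eq]
      intro s hs
      have hnd : (l.map Prod.fst).Nodup := by
        rw [hl, List.map_map, hLdef]
        show ([3, 5, 7, 11, 19] : List ℕ).Nodup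
        decide
      obtain ⟨hsm, hsw⟩ := weight_le hG l hall hnd s hs
      have hdisj : Disjoint (⋃ a ∈ s, sing G a.1 : Set G) (insert 1 (invSet G)) := by
        rw [Set.disjoint_left]
        intro x hx hx'
        simp only [Set.mem_iUnion, sing, Set.mem_ofPred_eq] at hx
        obtain ⟨a, ha, hax⟩ := hx
        obtain ⟨hap, -, -, ha2⟩ := prime_of_mem' hG (hall a (hsm a ha)).1
        rcases hx' with rfl | hx'
        · rw [orderOf_one, Nat.dvd_one] at hax
          exact hap.ne_one hax
        · rw [show orderOf x = 2 from hx'] at hax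
          exact ha2 ((Nat.prime_dvd_prime_iff_eq hap Nat.prime_two).1 hax)
      have h1 := Set.ncard_le_ncard (Set.subset_univ
        ((⋃ a ∈ s, sing G a.1 : Set G) ∪ insert 1 (invSet G))) (Set.toFinite _)
      rw [Set.ncard_union_eq hdisj (Set.toFinite _) (Set.toFinite _),
        Set.ncard_insert_of_notMem (fun h => by simp [invSet] at h), Set.ncard_univ, hG,
        ← Nat.card_coe_set_eq, ← hinvol] at h1
      rw [Check.ord]
      omega
  have hcheck := Check.check_eq_true
  rw [Check.check, List.all_eq_true] at hcheck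
  have hcases := hcheck l hmem
  simp only [hok, Bool.not_true, Bool.false_or, Bool.or_eq_true, beq_iff_eq] at hcases
  have hval : ∀ {v : List (ℕ × Data)}, l = v →
      [data G 3, data G 5, data G 7, data G 11, data G 19] = v.map Prod.snd := by
    intro v hv
    rw [← hv, hl, hLdef]
    rfl
  rcases hcases with hg | ho
  · -- the data of Janko's group
    have hv := hval hg
    simp only [Check.good, List.map_cons, List.map_nil, List.cons.injEq] at hv
    have hodd : Check.oddPart l = 15 := by rw [hg]; rfl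
    have hm : Check.invol l = 1463 := by rw [hg]; rfl
    refine ⟨t, ht, ⟨S, htS', htS⟩, by rw [← hC, hcardC, hodd], ?_, hinvol ▸ hm⟩
    obtain ⟨i, n, h1, h2, -, h3, h4, -, h6⟩ := hinc 5 (by simp [hLdef]) (by rw [hv.2.1]; rfl)
    rw [hv.2.1] at h2 h3
    rw [hm] at h3
    rw [← hC, h6]
    dsimp only at h2 h3
    omega
  · -- the spurious solution
    exfalso
    have hv := hval ho
    simp only [Check.other, List.map_cons, List.map_nil, List.cons.injEq] at hv
    have hm : Check.invol l = 133 := by rw [ho]; rfl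
    have hodd : Check.oddPart l = 165 := by rw [ho]; rfl
    obtain ⟨hp3, h3N, h32, -⟩ := prime_of_mem' hG (r := 3) (by simp)
    obtain ⟨hp5, h5N, h52, -⟩ := prime_of_mem' hG (r := 5) (by simp)
    haveI := Fact.mk hp3
    haveI := Fact.mk hp5
    obtain ⟨i3, n3, a1, a2, a3, a4, a5, a6, -⟩ := hinc 3 (by simp [hLdef]) (by rw [hv.1]; rfl)
    obtain ⟨i5, n5, b1, b2, b3, b4, b5, -, -⟩ := hinc 5 (by simp [hLdef]) (by rw [hv.2.1]; rfl)
    rw [hv.1] at a2 a4
    rw [hv.2.1] at b2 b4
    rw [hm] at a4 b4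
    rw [hodd] at a6
    dsimp only at a2 a4 b2 b4
    have hi5 : i5 = 3 := by omega
    have hi3 : i3 = 1 := by
      have : i3 = 1 ∨ i3 = 7 := by omega
      rcases this with rfl | rfl
      · rfl
      · rw [show n3 = 154 by omega] at a6
        norm_num at a6
    set P := sub G 3 with hP
    have hP3 : Nat.card P = 3 := card_sub h3N
    have hC3 : Nat.card (centralizer (P : Set G)) = 30 := by
      rw [(data_spec h3N h32 hP3).1, hv.1]
      rfl
    set D := centralizer (P : Set G) with hD
    obtain ⟨u, hu⟩ := Set.ncard_eq_one.1 (a3.trans hi3)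
    have huI : u ∈ invIn P := hu ▸ Set.mem_singleton u
    obtain ⟨w, hw⟩ := exists_prime_orderOf_dvd_card' (G := D) 5 (by rw [hC3]; norm_num)
    have hw5 : orderOf (w : G) = 5 := by rw [orderOf_coe, hw]
    set Q := zpowers (w : G) with hQ
    have hQ5 : Nat.card Q = 5 := by rw [hQ, Nat.card_zpowers, hw5]
    have hC5 : Nat.card (centralizer (Q : Set G)) = 30 := by
      rw [(data_spec h5N h52 hQ5).1, hv.2.1]
      rfl
    have hmemQ : ∀ z : G, z ∈ centralizer (Q : Set G) ↔ Commute (w : G) z := by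
      intro z
      rw [mem_centralizer_iff]
      refine ⟨fun h => h _ (mem_zpowers _), fun h => ?_⟩
      rintro _ ⟨k, rfl⟩
      exact (h.zpow_left k).eq
    -- `u` is central in `D`
    have huc : Commute (w : G) u := by
      have h1 : (w : G) * u * (w : G)⁻¹ ∈ invIn P := by
        refine ⟨?_, D.mul_mem (D.mul_mem w.2 huI.2) (D.inv_mem w.2)⟩
        rw [← huI.1]
        exact MulEquiv.orderOf_eq (MulAut.conj (w : G)) u
      rw [hu, Set.mem_singleton_iff] at h1
      exact mul_inv_eq_iff_eq_mul.1 h1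
    set E := D ⊓ centralizer (Q : Set G) with hE
    have hE30 : 30 ∣ Nat.card E := by
      have e2 : 2 ∣ Nat.card E := by
        have := E.orderOf_dvd_natCard (x := u) ⟨huI.2, (hmemQ u).2 huc⟩
        rwa [huI.1] at this
      have e3 : 3 ∣ Nat.card E := by
        have := card_dvd_of_le (show P ≤ E from fun x hx => ⟨le_centralizer_self hP3 hx,
          (hmemQ x).2 ((mem_centralizer_iff.1 w.2 x hx).symm)⟩)
        rwa [hP3] at this
      have e5 : 5 ∣ Nat.card E := by
        have := E.orderOf_dvd_natCard (x := (w : G)) ⟨w.2, (hmemQ w).2 (Commute.refl _)⟩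
        rwa [hw5] at this
      omega
    have hED : E = D := eq_of_le_of_card_ge inf_le_left (by
      rw [hC3]; exact Nat.le_of_dvd Nat.card_pos hE30)
    have hDQ : D = centralizer (Q : Set G) := eq_of_le_of_card_ge
      (hED ▸ inf_le_right) (by rw [hC3, hC5])
    obtain ⟨g, hg⟩ := exists_conj h5N h52 (card_sub h5N) hQ5
    have h5 : (invIn Q).ncard = 3 := by rw [← hg, invIn_ncard_map, b3, hi5]
    have h3 : invIn Q = invIn P := by rw [invIn, invIn, ← hDQ]
    rw [h3, a3, hi3] at h5
    omega

end CfsgLib.J1Local
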