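import Cfsg.Prelude.Def_SporadicB
import Cfsg.Agent.J1Local.Data
import Cfsg.Agent.S3669

/-!
A simple group of order `175560` has an involution centralizer of type `2 × A₅`.
-/

set_option autoImplicit false
set_option linter.style.haveILetI false
set_option linter.unusedSectionVars false

namespace CfsgLib.J1Local

open Subgroup

theorem altFive_pow : ∀ g : alternatingGroup (Fin 5), g ^ 8 = 1 → g * g = 1 := by decide +kernel

theorem altFive_conj : ∀ a b : alternatingGroup (Fin 5), a ≠ 1 → a * a = 1 → b ≠ 1 → b * b = 1 →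
    ∃ c, c * a * c⁻¹ = b := by decide +kernel

open scoped Classical

/-- A centralizer of order 120 with six Sylow 5-subgroups holds a second involution. -/
theorem exists_other_involution {G : Type*} [Group G] [Finite G] {t : G} (ht : orderOf t = 2)
    (hinv : (invSet G).ncard = 1463) (h8 : 8 ∣ Nat.card (centralizer ({t} : Set G))) :
    ∃ u ∈ centralizer ({t} : Set G), orderOf u = 2 ∧ u ≠ t := by
  by_contra hno
  push Not at hno
  haveI : Fact (Nat.Prime 2) := ⟨Nat.prime_two⟩
  set C := centralizer ({t} : Set G) with hC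
  obtain ⟨S, hS⟩ := Sylow.exists_subgroup_card_pow_prime (G := C) 2 (n := 3) (by simpa using h8)
  obtain ⟨x, hxS, hx1, hxt⟩ : ∃ x ∈ S, x ≠ 1 ∧ (x : G) ≠ t := by
    by_contra h
    push Not at h
    have hsub : (Subtype.val '' (S : Set C)) ⊆ {1, t} := by
      rintro _ ⟨x, hx, rfl⟩
      by_cases h1 : x = 1
      · subst h1; exact Or.inl rfl
      · exact Or.inr (h x hx h1)
    have h2 := (Set.ncard_le_ncard hsub (Set.toFinite _)).trans (Set.ncard_insert_le _ _)
    rw [Set.ncard_image_of_injective _ Subtype.val_injective, Set.ncard_singleton,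
      ← Nat.card_coe_set_eq] at h2
    have : Nat.card S = 8 := by rw [hS]; norm_num
    change Nat.card S ≤ _ at h2
    omega
  have hd : orderOf x ∣ 2 ^ 3 := hS ▸ S.orderOf_dvd_natCard hxS
  obtain ⟨k, hk, hk'⟩ := (Nat.dvd_prime_pow Nat.prime_two).1 hd
  obtain ⟨y, hy⟩ : ∃ y : C, orderOf y = 4 := by
    rcases k with _ | _ | k
    · exact absurd (orderOf_eq_one_iff.1 (by simpa using hk')) hx1
    · exact absurd (hno x x.2 (by rw [orderOf_coe, hk', pow_one])) hxt
    · refine ⟨x ^ (2 ^ k), ?_⟩
      rw [orderOf_pow, hk', Nat.gcd_eq_right (pow_dvd_pow 2 (by omega)),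
        Nat.pow_div (by omega) (by norm_num), show k + 1 + 1 - k = 2 by omega]
  have hy4 : orderOf (y : G) = 4 := by rw [orderOf_coe, hy]
  have hy2 : (y : G) ^ 2 = t := by
    refine hno _ (C.pow_mem y.2 2) ?_
    rw [orderOf_pow, hy4]
    norm_num
  -- a fixed-point-free action on the other involutions
  let A : Set G := invSet G \ {t}
  have hA : Nat.card A = 1462 := by
    rw [Nat.card_coe_set_eq, Set.ncard_sdiff_singleton_of_mem (show t ∈ invSet G from ht), hinv]
  have hyt : ∀ n ∈ zpowers (y : G), n * t * n⁻¹ = t := by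
    intro n hn
    have : n ∈ C := zpowers_le.2 y.2 hn
    rw [mem_centralizer_singleton_iff.1 this, mul_inv_cancel_right]
  have hmem : ∀ n ∈ zpowers (y : G), ∀ a ∈ A, n * a * n⁻¹ ∈ A := by
    intro n hn a ha
    refine ⟨?_, fun h => ha.2 ?_⟩
    · show orderOf (n * a * n⁻¹) = 2
      rw [← ha.1]
      exact MulEquiv.orderOf_eq (MulAut.conj n) a
    · rw [Set.mem_singleton_iff] at h ⊢
      exact mul_left_cancel (mul_right_cancel (h.trans (hyt n hn).symm))
  letI : MulAction (zpowers (y : G)) A :=
    { smul := fun n a => ⟨(n : G) * a * (n : G)⁻¹, hmem n n.2 a a.2⟩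
      one_smul := fun a => Subtype.ext (by show (1 : G) * a * (1 : G)⁻¹ = a; simp)
      mul_smul := fun m n a => Subtype.ext (by
        show ((m : G) * n) * a * ((m : G) * n)⁻¹ = m * (n * a * (n : G)⁻¹) * (m : G)⁻¹
        group) }
  have hfree : ∀ a : A, MulAction.stabilizer (zpowers (y : G)) a = ⊥ := by
    intro a
    rw [eq_bot_iff]
    intro n hn
    rw [mem_bot]
    by_contra hn1
    have hfix : (n : G) * a * (n : G)⁻¹ = a := congrArg Subtype.val hn
    obtain ⟨j, hj⟩ := n.2
    have hj' : (y : G) ^ j = n := hj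
    have hjt : ∃ i : ℤ, (n : G) ^ i = t := by
      by_cases hodd : j % 2 = 1
      · refine ⟨2, ?_⟩
        rw [← hj', ← zpow_mul, ← hy2, ← zpow_natCast, zpow_eq_zpow_iff_modEq, hy4]
        unfold Int.ModEq
        push_cast
        omega
      · refine ⟨1, ?_⟩
        have : j % 4 = 2 := by
          by_contra h
          apply hn1
          apply Subtype.ext
          show (n : G) = 1
          rw [← hj', ← orderOf_dvd_iff_zpow_eq_one, hy4]
          push_cast
          omega
        rw [zpow_one, ← hj', ← hy2, ← zpow_natCast, zpow_eq_zpow_iff_modEq, hy4]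
        unfold Int.ModEq
        push_cast
        omega
    obtain ⟨i, hi⟩ := hjt
    have hc : Commute (a : G) t := hi ▸ (Commute.zpow_right (mul_inv_eq_iff_eq_mul.1 hfix).symm i)
    exact a.2.2 (hno a (mem_centralizer_singleton_iff.2 hc) a.2.1)
  have h4 : (4 : ℕ) ∣ Nat.card A := by
    have h := Nat.card_congr (MulAction.selfEquivOrbitsQuotientProd hfree)
    rw [Nat.card_prod, Nat.card_zpowers, hy4] at h
    exact Dvd.intro_left _ h.symm
  rw [hA] at h4
  norm_num at h4

/-- Order 120, a central involution, six Sylow 5-subgroups and a second involution. -/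
theorem two_times_altFive {C : Type*} [Group C] [Finite C] (hC : Nat.card C = 120) (t : C)
    (ht : orderOf t = 2) (htc : ∀ c, c * t = t * c) (h5 : Nat.card (Sylow 5 C) = 6)
    (u : C) (hu : orderOf u = 2) (hut : u ≠ t) :
    Nonempty (C ≃* Multiplicative (ZMod 2) × alternatingGroup (Fin 5)) := by
  haveI : Fact (Nat.Prime 2) := ⟨Nat.prime_two⟩
  haveI : Fact (Nat.Prime 5) := ⟨by norm_num⟩
  set Z := zpowers t with hZ
  have hZ2 : Nat.card Z = 2 := by rw [hZ, Nat.card_zpowers, ht]
  have hZc : ∀ z ∈ Z, ∀ c, c * z = z * c := by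
    intro z hz c
    obtain ⟨k, rfl⟩ := hz
    exact (Commute.zpow_right (htc c) k).eq
  haveI : Z.Normal := ⟨fun z hz g => by
    rw [hZc z hz g, mul_inv_cancel_right]; exact hz⟩
  have hZ12 : ∀ z ∈ Z, z = 1 ∨ z = t := by
    intro z hz
    obtain ⟨k, rfl⟩ := hz
    show t ^ k = 1 ∨ t ^ k = t
    rw [← zpow_mod_orderOf, ht]
    rcases Int.emod_two_eq_zero_or_one k with h | h <;> simp [h]
  let π := QuotientGroup.mk' Z
  have hπ : ∀ x, π x = 1 ↔ x ∈ Z := fun x => QuotientGroup.eq_one_iff x
  have hH : Nat.card (C ⧸ Z) = 60 := by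
    have := Z.card_eq_card_quotient_mul_card_subgroup
    rw [hC, hZ2] at this
    omega
  have hsimple : IsSimpleGroup (C ⧸ Z) := by
    by_contra hns
    have h1 := Cfsg.Agent.S3669.card_sylow_five_of_sixty hH hns
    obtain ⟨Q⟩ : Nonempty (Sylow 5 (C ⧸ Z)) := inferInstance
    have hQ5 : Nat.card (Q : Subgroup (C ⧸ Z)) = 5 :=
      CfsgLib.SolvCrit.Order175560.card_sylow' (by rw [hH]; norm_num) (by rw [hH]; norm_num) Q
    set M := (Q : Subgroup (C ⧸ Z)).comap π with hM
    have hTM : ∀ T : Sylow 5 C, (T : Subgroup C) ≤ M := by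
      intro T
      obtain ⟨Q', hQ'⟩ := (T.isPGroup'.map π).exists_le_sylow
      rw [hM, ← Subgroup.map_le_iff_le_comap]
      rwa [show Q' = Q from (Nat.card_eq_one_iff_unique.1 h1).1.elim _ _] at hQ'
    have hM10 : Nat.card M = 10 := by
      have h := Nat.card_congr (QuotientGroup.preimageMkEquivSubgroupProdSet Z (Q : Set (C ⧸ Z)))
      rw [Nat.card_prod, hZ2] at h
      have h' : Nat.card M = 2 * Nat.card (Q : Subgroup (C ⧸ Z)) := h
      rw [hQ5] at h'
      exact h'
    have hM1 : Subsingleton (Sylow 5 M) := by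
      obtain ⟨T⟩ : Nonempty (Sylow 5 M) := inferInstance
      have hT := CfsgLib.SolvCrit.Order175560.card_sylow' (by rw [hM10]; norm_num)
        (by rw [hM10]; norm_num) T
      have h2 := T.card_dvd_index
      have h3 : (T : Subgroup M).index = 2 := by
        have := (T : Subgroup M).card_mul_index
        rw [hT, hM10] at this
        omega
      rw [h3] at h2
      have h4 := card_sylow_modEq_one 5 M
      have := Nat.le_of_dvd (by norm_num) h2
      unfold Nat.ModEq at h4
      exact (Nat.card_eq_one_iff_unique.1 (by omega)).1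
    have hsub : Subsingleton (Sylow 5 C) := ⟨fun T T' => by
      have h := hM1.elim (T.subtype (hTM T)) (T'.subtype (hTM T'))
      exact Sylow.subtype_injective h⟩
    rw [Nat.card_of_subsingleton (Classical.arbitrary (Sylow 5 C))] at h5
    omega
  obtain ⟨e⟩ := CfsgLib.Classification.nonempty_equiv_alternating_five hH
  -- every lift of an involution squares to one
  have hsq : ∀ x : C, π x * π x = 1 → x * x = 1 := by
    intro x hx
    by_cases hx1 : π x = 1
    · rcases hZ12 x ((hπ x).1 hx1) with rfl | rfl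
      · exact one_mul 1
      · rw [← sq, ← ht, pow_orderOf_eq_one]
    have hu' : π u ≠ 1 := fun h => by
      rcases hZ12 u ((hπ u).1 h) with h | h
      · rw [h, orderOf_one] at hu; omega
      · exact hut h
    have huu : u * u = 1 := by rw [← sq, ← hu, pow_orderOf_eq_one]
    obtain ⟨c, hc⟩ := altFive_conj (e (π u)) (e (π x))
      (fun h => hu' (e.map_eq_one_iff.1 h)) (by rw [← map_mul, ← map_mul, huu, map_one, map_one])
      (fun h => hx1 (e.map_eq_one_iff.1 h)) (by rw [← map_mul, hx, map_one])
    obtain ⟨g, hg⟩ := QuotientGroup.mk'_surjective Z (e.symm c)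
    have hgx : π ((g * u * g⁻¹)⁻¹ * x) = 1 := by
      apply e.injective
      simp only [map_mul, map_inv, show π g = e.symm c from hg, MulEquiv.apply_symm_apply,
        hc, inv_mul_cancel, map_one]
    have hz := (hπ _).1 hgx
    obtain ⟨z, hzdef⟩ : ∃ z, z = (g * u * g⁻¹)⁻¹ * x := ⟨_, rfl⟩
    rw [← hzdef] at hz
    have hxz : x = g * u * g⁻¹ * z := by rw [hzdef, mul_inv_cancel_left]
    have hzz : z * z = 1 := by
      rcases hZ12 z hz with rfl | rfl
      · exact one_mul 1
      · rw [← sq, ← ht, pow_orderOf_eq_one]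
    calc x * x = g * u * g⁻¹ * (z * (g * u * g⁻¹)) * z := by rw [hxz]; simp only [mul_assoc]
      _ = g * u * g⁻¹ * (g * u * g⁻¹) * (z * z) := by
          rw [← hZc z hz (g * u * g⁻¹)]; simp only [mul_assoc]
      _ = g * (u * u) * g⁻¹ := by rw [hzz]; group
      _ = 1 := by rw [huu]; group
  -- the Sylow 2-subgroup is elementary
  obtain ⟨S⟩ : Nonempty (Sylow 2 C) := inferInstance
  have hS8 : Nat.card (S : Subgroup C) = 8 := by
    rw [S.card_eq_multiplicity, hC, show (120 : ℕ) = 2 ^ 3 * 15 by norm_num,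
      Nat.factorization_mul (by norm_num) (by norm_num), Finsupp.add_apply,
      Nat.factorization_pow_self Nat.prime_two,
      Nat.factorization_eq_zero_of_not_dvd (by norm_num)]
    rfl
  have hS2 : ∀ s : (S : Subgroup C), s * s = 1 := by
    intro s
    apply Subtype.ext
    show (s : C) * s = 1
    apply hsq
    apply e.injective
    rw [map_one, map_mul]
    apply altFive_pow
    rw [← map_pow, ← map_pow]
    have : (s : C) ^ 8 = 1 := by
      have h := orderOf_dvd_natCard s
      rw [hS8] at h
      rw [← orderOf_dvd_iff_pow_eq_one, orderOf_coe]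
      exact h
    rw [this, map_one, map_one]
  have hScomm : ∀ a b : (S : Subgroup C), a * b = b * a := by
    have hinv : ∀ a : (S : Subgroup C), a⁻¹ = a := fun a =>
      inv_eq_of_mul_eq_one_right (hS2 a)
    intro a b
    rw [← hinv (a * b), mul_inv_rev, hinv, hinv]
  letI : CommGroup (S : Subgroup C) :=
    { (inferInstance : Group (S : Subgroup C)) with mul_comm := hScomm }
  have htS : t ∈ (S : Subgroup C) := by
    obtain ⟨P, hP⟩ := (IsPGroup.of_card (n := 1) (show Nat.card Z = 2 ^ 1 by rw [hZ2, pow_one])).exists_le_sylow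
    obtain ⟨g, rfl⟩ := MulAction.exists_smul_eq C S P
    have h := hP (mem_zpowers t)
    rw [Sylow.coe_subgroup_smul] at h
    obtain ⟨s, hs, hs'⟩ := h
    have hs2 : g * s * g⁻¹ = t := hs'
    have : s = t := by
      calc s = g⁻¹ * (g * s * g⁻¹) * g := by group
        _ = g⁻¹ * (t * g) := by rw [hs2, mul_assoc]
        _ = t := by rw [← htc g, inv_mul_cancel_left]
    exact this ▸ hs
  let f : C →* (S : Subgroup C) := MonoidHom.transfer (MonoidHom.id (S : Subgroup C))
  have hidx : (S : Subgroup C).index = 15 := by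
    have := (S : Subgroup C).card_mul_index
    rw [hS8, hC] at this
    omega
  have hft : (f t : C) = t := by
    show ((MonoidHom.transfer (MonoidHom.id (S : Subgroup C)) t : (S : Subgroup C)) : C) = t
    rw [MonoidHom.transfer_eq_pow (MonoidHom.id (S : Subgroup C)) t fun k g₀ _ => by
      rw [mul_assoc, ← (Commute.pow_right (htc g₀) k).eq, inv_mul_cancel_left]]
    show t ^ (S : Subgroup C).index = t
    rw [hidx, ← pow_mod_orderOf, ht]
    norm_num
  have hKZ : ∀ x ∈ f.ker, x ∈ Z → x = 1 := by
    intro x hx hxZ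
    rcases hZ12 x hxZ with h | h
    · exact h
    · rw [MonoidHom.mem_ker] at hx
      rw [h] at hx ⊢
      rw [hx] at hft
      exact hft.symm
  let πK : f.ker →* C ⧸ Z := π.comp f.ker.subtype
  have hinj : Function.Injective πK := by
    rw [injective_iff_map_eq_one]
    exact fun a ha => Subtype.ext (hKZ a a.2 ((hπ a).1 ha))
  have hsurj : Function.Surjective πK := by
    haveI : (f.ker.map π).Normal := (MonoidHom.normal_ker f).map π (QuotientGroup.mk'_surjective Z)
    haveI := hsimple
    have hr : πK.range = f.ker.map π := by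
      rw [MonoidHom.range_comp, Subgroup.range_subtype]
    rcases (inferInstance : (f.ker.map π).Normal).eq_bot_or_eq_top with h | h
    · exfalso
      have h1 : Nat.card f.ker = 1 := by
        rw [Nat.card_congr (MonoidHom.ofInjective hinj).toEquiv, hr, h, card_bot]
      have h2 := f.ker.card_mul_index
      rw [h1, index_ker, hC] at h2
      have h3 := Nat.le_of_dvd Nat.card_pos (card_subgroup_dvd_card f.range)
      omega
    · rw [← MonoidHom.range_eq_top, hr, h]
  let eK : f.ker ≃* alternatingGroup (Fin 5) := (MulEquiv.ofBijective πK ⟨hinj, hsurj⟩).trans e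
  haveI : IsCyclic Z := isCyclic_of_prime_card hZ2
  let eZ : Z ≃* Multiplicative (ZMod 2) := mulEquivOfCyclicCardEq (by
    rw [hZ2]; simp)
  let m : Z × f.ker →* C :=
    { toFun := fun p => (p.1 : C) * p.2
      map_one' := one_mul 1
      map_mul' := fun p q => by
        show ((p.1 : C) * q.1) * ((p.2 : C) * q.2) = (p.1 : C) * p.2 * ((q.1 : C) * q.2)
        rw [mul_assoc, mul_assoc, ← mul_assoc (q.1 : C), ← hZc q.1 q.1.2 p.2, mul_assoc] }
  have hm : Function.Bijective m := by
    refine ⟨?_, fun c => ?_⟩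
    · rw [injective_iff_map_eq_one]
      rintro ⟨z, k⟩ h
      have h' : (z : C) * k = 1 := h
      have hk : (k : C) = (z : C)⁻¹ := eq_inv_of_mul_eq_one_right h'
      have hk1 : (k : C) = 1 := hKZ k k.2 (hk ▸ Z.inv_mem z.2)
      have hz1 : (z : C) = 1 := by rw [hk1, mul_one] at h'; exact h'
      exact Prod.ext (Subtype.ext hz1) (Subtype.ext hk1)
    · obtain ⟨k, hk⟩ := hsurj (π c)
      refine ⟨(⟨c * (k : C)⁻¹, (hπ _).1 ?_⟩, k), inv_mul_cancel_right c (k : C)⟩
      rw [map_mul, map_inv, show π (k : C) = π c from hk, mul_inv_cancel]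
  exact ⟨(MulEquiv.ofBijective m hm).symm.trans (MulEquiv.prodCongr eZ eK)⟩

/-- The centralizer of an involution. -/
theorem exists_centralizer {G : Type*} [Group G] [Finite G] [IsSimpleGroup G]
    (hG : Nat.card G = 175560) :
    ∃ t : G, Cfsg.IsTwoCentralInvolution t ∧
      Nonempty (centralizer ({t} : Set G) ≃* Multiplicative (ZMod 2) × alternatingGroup (Fin 5)) := by
  have hab : ¬ IsMulCommutative G := by
    intro h
    letI : CommGroup G :=
      { (inferInstance : Group G) with mul_comm := fun a b => h.is_comm.comm a b }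
    have hp : (Nat.card G).Prime := IsSimpleGroup.prime_card
    rw [hG] at hp
    norm_num at hp
  obtain ⟨t, ht, ⟨S, htS, hSC⟩, h120, h6, h1463⟩ := exists_data hab hG
  refine ⟨t, ⟨ht, S, htS, fun x hx => mem_centralizer_singleton_iff.1 (hSC hx)⟩, ?_⟩
  obtain ⟨u, huC, hu, hut⟩ := exists_other_involution ht h1463 (by rw [h120]; norm_num)
  refine two_times_altFive h120 ⟨t, mem_centralizer_singleton_iff.2 rfl⟩
    (by rw [Subgroup.orderOf_mk, ht]) (fun c => Subtype.ext (mem_centralizer_singleton_iff.1 c.2))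
    h6 ⟨u, huC⟩ (by rw [Subgroup.orderOf_mk, hu]) (fun h => hut (congrArg Subtype.val h))

end CfsgLib.J1Local
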