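import Cfsg.Agent.SolvCrit.OrderCheck

/-!
A finite certificate: the Sylow data of a simple group of order `175560` leave two possibilities.
-/

set_option autoImplicit false

namespace CfsgLib.J1Local.Check

open CfsgLib.SolvCrit.OrderCheck

/-- The order of Janko's first group. -/
def ord : ℕ := 175560

/-- The order of the normalizer. -/
def nrm (a : ℕ × Data) : ℕ := a.1 * a.2.2.1 * a.2.2.2

/-- A forced normal Sylow subgroup of a centralizer, with the Sylow congruence in its normalizer. -/
def forcedTwo (a b : ℕ × Data) : Bool :=
  a.2.2.2 % b.1 != 0 ||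
    ((cand.any fun k => k != 1 && (a.2.2.2 / b.1) % k == 0 && k % b.1 == 1) ||
      (nrm b % nrm a == 0 && (nrm b / nrm a) % a.1 == 1))

/-- Two entries are compatible. -/
def compat (a b : ℕ × Data) : Bool :=
  (a.2.2.2 % b.1 == 0) == (b.2.2.2 % a.1 == 0) && forcedTwo a b && forcedTwo b a

/-- Data compatible in pairs. -/
def search : List ℕ → List (List (ℕ × Data))
  | [] => [[]]
  | r :: rs =>
    let tails := search rs
    (options ord r).flatMap fun o =>
      (tails.filter fun l => l.all (compat (r, o))).map fun l => (r, o) :: l

/-- The odd part of the order of an involution centralizer. -/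
def oddPart (l : List (ℕ × Data)) : ℕ :=
  ((l.filter fun a => a.2.2.2 % 2 == 0).map Prod.fst).prod

/-- The number of involutions. -/
def invol (l : List (ℕ × Data)) : ℕ := ord / (8 * oddPart l)

/-- The number of involutions centralizing a Sylow subgroup fits the incidence count. -/
def incOK (l : List (ℕ × Data)) (a : ℕ × Data) : Bool :=
  a.2.2.2 % 2 == 1 ||
    (List.range a.2.2.2).any fun i =>
      i % 2 == 1 && a.2.1 * i % invol l == 0 && (a.2.1 * i / invol l) % a.1 == 1 &&
        4 * oddPart l % (a.2.1 * i / invol l * a.1) == 0

/-- The element count, with the involutions. -/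
def countTwo (l : List (ℕ × Data)) : Bool :=
  (indep l).all fun s => weight s + 1 + invol l ≤ ord

/-- The data of Janko's first group. -/
def good : List (ℕ × Data) :=
  [(3, 2926, 2, 10), (5, 2926, 2, 6), (7, 4180, 6, 1), (11, 1596, 10, 1), (19, 1540, 6, 1)]

/-- The other solution of the numerical conditions. -/
def other : List (ℕ × Data) :=
  [(3, 2926, 2, 10), (5, 2926, 2, 6), (7, 4180, 6, 1), (11, 1596, 5, 2), (19, 1540, 6, 1)]

/-- All conditions. -/
def ok (l : List (ℕ × Data)) : Bool :=
  decide (1 < invol l) && l.all (incOK l) && countTwo l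

/-- Only two solutions. -/
def check : Bool :=
  (search [3, 5, 7, 11, 19]).all fun l => !(ok l) || l == good || l == other

theorem check_eq_true : check = true := by decide +kernel

theorem mem_search {f : ℕ → Data} : ∀ L : List ℕ, (∀ r ∈ L, f r ∈ options ord r) →
    L.Pairwise (fun r s => compat (r, f r) (s, f s) = true) →
    (L.map fun r => (r, f r)) ∈ search L
  | [], _, _ => by simp [search]
  | r :: L, h, hp => by
    obtain ⟨h1, h2⟩ := List.pairwise_cons.1 hp
    simp only [search, List.map_cons, List.mem_flatMap, List.mem_map, List.mem_filter]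
    refine ⟨_, h r List.mem_cons_self, _,
      ⟨mem_search L (fun s hs => h s (List.mem_cons_of_mem _ hs)) h2, ?_⟩, rfl⟩
    simp only [List.all_map, List.all_eq_true, Function.comp_apply]
    exact h1

end CfsgLib.J1Local.Check
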